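import Groth.Prelude.Def_W4c1imperftorsorsPerf
import Mathlib.RingTheory.Ideal.Quotient.Operations
import Mathlib.Algebra.Polynomial.AlgebraMap
import Mathlib.Algebra.Polynomial.Eval.Defs
import Mathlib.Data.Matrix.Basic
import Mathlib.LinearAlgebra.Matrix.Notation
import Mathlib.Data.Nat.Prime.Basic
import Mathlib.Algebra.CharP.Lemmas
import Mathlib.Tactic.LinearCombination

/-! The twists of `R[α]/(uα, α² − v²)`. -/

noncomputable section

universe u

open Polynomial TensorProduct W4c1imperftorsors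

namespace Groth.Agent.PrePerf98

variable (p : ℕ) [Fact p.Prime] {R : Type u} [CommRing R] [CharP R p] (u v : R)

/-- The algebra `R[α]/(uα, α² − v²)`. -/
abbrev B : Type u := R[X] ⧸ Ideal.span {(C u * X : R[X]), X ^ 2 - C (v ^ 2)}

/-- The class of `α`. -/
def α : B u v := Ideal.Quotient.mk _ X

theorem algebraMap_eq (s : R) : algebraMap R (B u v) s = Ideal.Quotient.mk _ (C s) := rfl

theorem mul_α : algebraMap R (B u v) u * α u v = 0 := by
  rw [algebraMap_eq, α, ← map_mul, Ideal.Quotient.eq_zero_iff_mem]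
  exact Ideal.subset_span (by simp)

theorem α_mul_α : α u v * α u v = algebraMap R (B u v) (v ^ 2) := by
  rw [algebraMap_eq, α, ← map_mul, Ideal.Quotient.eq, ← pow_two]
  exact Ideal.subset_span (by simp)

/-- The class of `a` in a twist. -/
def inc (i : ℕ) : B u v →+* Twist p R (B u v) i :=
  (Algebra.TensorProduct.includeRight.toRingHom : ASrc p R (B u v) i →+* Twist p R (B u v) i).comp
    ((aEquiv p R (B u v) i).symm : B u v →+* ASrc p R (B u v) i)

theorem inc_algebraMap (i : ℕ) (s : R) :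
    inc p u v i (algebraMap R (B u v) s) = (s ^ p ^ i) • (1 : Twist p R (B u v) i) := by
  show (1 : R) ⊗ₜ[Src p R i] algebraMap (Src p R i) (ASrc p R (B u v) i) ((srcEquiv p R i).symm s) = _
  rw [Algebra.algebraMap_eq_smul_one, ← smul_tmul, Algebra.TensorProduct.one_def, smul_tmul',
    Algebra.smul_def, algebraMap_src, RingEquiv.apply_symm_apply, smul_eq_mul, mul_one]

theorem tmul_eq_smul (i : ℕ) (r : R) (a : ASrc p R (B u v) i) :
    r ⊗ₜ[Src p R i] a = r • inc p u v i (aEquiv p R (B u v) i a) := by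
  show _ = r • ((1 : R) ⊗ₜ[Src p R i] (aEquiv p R (B u v) i).symm (aEquiv p R (B u v) i a))
  rw [smul_tmul', smul_eq_mul, mul_one, RingEquiv.symm_apply_apply]

/-- The class of `α` in a twist. -/
def e (i : ℕ) : Twist p R (B u v) i := inc p u v i (α u v)

theorem smul_e (i : ℕ) : (u ^ p ^ i) • e p u v i = 0 := by
  rw [e, ← one_mul (inc p u v i (α u v)), ← smul_mul_assoc, ← inc_algebraMap, ← map_mul, mul_α, map_zero]

theorem e_mul_e (i : ℕ) : e p u v i * e p u v i = ((v ^ 2) ^ p ^ i) • (1 : Twist p R (B u v) i) := by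
  rw [e, ← map_mul, α_mul_α, inc_algebraMap]

theorem exists_coord {i : ℕ} (x : Twist p R (B u v) i) :
    ∃ a b : R, x = a • (1 : Twist p R (B u v) i) + b • e p u v i := by
  induction x using TensorProduct.induction_on with
  | zero => exact ⟨0, 0, by simp⟩
  | add x y hx hy =>
    obtain ⟨a, b, rfl⟩ := hx
    obtain ⟨a', b', rfl⟩ := hy
    exact ⟨a + a', b + b', by rw [add_smul, add_smul]; abel⟩
  | tmul r x =>
    rw [tmul_eq_smul]
    obtain ⟨f, hf⟩ := Ideal.Quotient.mk_surjective (aEquiv p R (B u v) i x)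
    suffices ∃ a b : R, inc p u v i (Ideal.Quotient.mk _ f) = a • (1 : Twist p R (B u v) i) + b • e p u v i by
      obtain ⟨a, b, h⟩ := this
      exact ⟨r * a, r * b, by rw [← hf, h, smul_add, smul_smul, smul_smul]⟩
    clear hf
    induction f using Polynomial.induction_on with
    | C s => exact ⟨s ^ p ^ i, 0, by rw [← algebraMap_eq, inc_algebraMap, zero_smul, add_zero]⟩
    | add f g hf hg =>
      obtain ⟨a, b, hf⟩ := hf
      obtain ⟨a', b', hg⟩ := hg
      exact ⟨a + a', b + b', by rw [map_add, map_add, hf, hg, add_smul, add_smul]; abel⟩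
    | monomial n s ih =>
      obtain ⟨a, b, ih⟩ := ih
      refine ⟨b * (v ^ 2) ^ p ^ i, a, ?_⟩
      rw [pow_succ X n, ← mul_assoc, map_mul, map_mul, ih, show inc p u v i (Ideal.Quotient.mk _ X) = e p u v i from rfl,
        add_mul, smul_mul_assoc, smul_mul_assoc, one_mul, e_mul_e, smul_smul, add_comm]

/-- Evaluation of a twist at a root in an algebra. -/
theorem exists_hom (i : ℕ) {T : Type u} [Ring T] [Algebra R T] (t : T) (h1 : (u ^ p ^ i) • t = 0)
    (h2 : t * t = ((v ^ 2) ^ p ^ i) • (1 : T)) :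
    ∃ f : Twist p R (B u v) i →ₗ[R] T, f 1 = 1 ∧ f (e p u v i) = t := by
  let c : R →+* T := (algebraMap R T).comp (iterateFrobenius R p i)
  have hc : ∀ s, c s = algebraMap R T (s ^ p ^ i) := fun s => by simp [c, iterateFrobenius_def]
  let h : R[X] →+* T := eval₂RingHom' c t fun a => Algebra.commute_algebraMap_left _ _
  have hX : h X = t := eval₂_X c t
  have hC : ∀ s, h (C s) = c s := fun s => eval₂_C c t
  have hI : ∀ a ∈ Ideal.span {(C u * X : R[X]), X ^ 2 - C (v ^ 2)}, h a = 0 := fun a ha => by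
    refine (Ideal.span_le.2 ?_ : _ ≤ RingHom.ker h) ha
    rintro _ (rfl | rfl)
    · rw [SetLike.mem_coe, RingHom.mem_ker, map_mul, hC, hX, hc, ← Algebra.smul_def, h1]
    · rw [SetLike.mem_coe, RingHom.mem_ker, map_sub, map_pow, hX, hC, hc, pow_two, h2,
        ← Algebra.algebraMap_eq_smul_one, sub_self]
  letI : Algebra (Src p R i) T :=
    RingHom.toAlgebra' ((algebraMap R T).comp (algebraMap (Src p R i) R)) fun _ _ => Algebra.commutes _ _
  haveI : IsScalarTower (Src p R i) R T := IsScalarTower.of_algebraMap_eq fun _ => rfl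
  let g : ASrc p R (B u v) i →ₐ[Src p R i] T :=
    { (Ideal.Quotient.lift _ h hI).comp (aEquiv p R (B u v) i : ASrc p R (B u v) i →+* B u v) with
      commutes' := fun s => by
        show Ideal.Quotient.lift _ h hI (aEquiv p R (B u v) i (algebraMap (Src p R i) (ASrc p R (B u v) i) s)) = _
        rw [algebraMap_aSrc, RingEquiv.apply_symm_apply, algebraMap_eq, Ideal.Quotient.lift_mk, hC, hc]
        rfl }
  have hcomm : ∀ (r : R) (x : ASrc p R (B u v) i), Commute (Algebra.ofId R T r) (g x) :=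
    fun r _ => Algebra.commute_algebraMap_left r _
  refine ⟨(Algebra.TensorProduct.lift (Algebra.ofId R T) g hcomm).toLinearMap,
    map_one (Algebra.TensorProduct.lift (Algebra.ofId R T) g hcomm), ?_⟩
  show Algebra.TensorProduct.lift (Algebra.ofId R T) g hcomm
    ((1 : R) ⊗ₜ[Src p R i] (aEquiv p R (B u v) i).symm (α u v)) = t
  rw [Algebra.TensorProduct.lift_tmul, map_one, one_mul]
  show Ideal.Quotient.lift _ h hI (aEquiv p R (B u v) i ((aEquiv p R (B u v) i).symm (α u v))) = t
  rw [RingEquiv.apply_symm_apply, α, Ideal.Quotient.lift_mk, hX]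

variable [CharP (B u v) p]

theorem relFrob_e (hp : p ≠ 2) (i : ℕ) :
    relFrob p R (B u v) i (e p u v (i + 1)) = (v ^ ((p - 1) * p ^ i)) • e p u v i := by
  have h : relFrob p R (B u v) i (e p u v (i + 1)) = inc p u v i (α u v ^ p) := by
    show relFrobAux p R (B u v) i ((1 : R) ⊗ₜ (aEquiv p R (B u v) (i + 1)).symm (α u v)) = _
    rw [relFrobAux, Algebra.TensorProduct.lift_tmul, map_one, one_mul]
    rfl
  obtain ⟨m, hm⟩ := (Fact.out : p.Prime).odd_of_ne_two hp
  have hα : α u v ^ p = algebraMap R (B u v) (v ^ (p - 1)) * α u v := by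
    simp only [hm, pow_succ (α u v), pow_mul (α u v), pow_two (α u v), α_mul_α, ← map_pow, ← pow_mul]
    simp
  rw [h, hα, map_mul, inc_algebraMap, smul_mul_assoc, one_mul, ← pow_mul]
  rfl

theorem bijective (hp : p ≠ 2) (huv : u * v = 0)
    (hsep : ∀ N : ℕ, 1 ≤ N → ∀ g : R,
      (∀ n : ℕ, g ∈ Ideal.span {v ^ n} ⊔ Ideal.span {u ^ N}) → g ∈ Ideal.span {u ^ N}) :
    Function.Bijective (algebraMap R ↥(prePerf p R (B u v))) := by
  have hP : ∀ i, 0 < p ^ i := fun i => pow_pos (Fact.out : p.Prime).pos i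
  have hε : ∀ i, ∃ f : Twist p R (B u v) i →ₗ[R] R, f 1 = 1 ∧ f (e p u v i) = v ^ p ^ i := fun i =>
    exists_hom p u v i (v ^ p ^ i) (by rw [smul_eq_mul, ← mul_pow, huv, zero_pow (hP i).ne'])
      (by rw [smul_eq_mul, mul_one, ← pow_mul, ← pow_add]; congr 1; ring)
  have hinj : ∀ i (a a' : R), a • (1 : Twist p R (B u v) i) = a' • 1 → a = a' := fun i a a' h => by
    obtain ⟨f, hf, -⟩ := hε i
    simpa [hf] using congrArg f h
  constructor
  · intro a a' h
    have := congrArg (fun x : ↥(prePerf p R (B u v)) => x.1 0) h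
    exact hinj 0 a a' (by simpa [Algebra.algebraMap_eq_smul_one] using this)
  rintro ⟨x, hx⟩
  have hF : ∀ i, relFrob p R (B u v) i (x (i + 1)) = x i := fun i => by
    have := (Algebra.mem_iInf.1 hx) i
    simpa using this
  choose a b hab using fun i => exists_coord p u v (x i)
  have hM : ∀ i (c c' d d' : R), c • (1 : Twist p R (B u v) i) + d • e p u v i = c' • 1 + d' • e p u v i →
      d - d' ∈ Ideal.span {u ^ p ^ i} := fun i c c' d d' h => by
    let Q := R ⧸ Ideal.span {u ^ p ^ i}
    let t : Matrix (Fin 2) (Fin 2) Q := !![0, algebraMap R Q ((v ^ 2) ^ p ^ i); 1, 0]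
    obtain ⟨f, hf, hfe⟩ := exists_hom p u v i t (T := Matrix (Fin 2) (Fin 2) Q)
      (Matrix.ext fun k l => by
        rw [Matrix.smul_apply, Algebra.smul_def,
          show algebraMap R Q (u ^ p ^ i) = 0 from
            Ideal.Quotient.eq_zero_iff_mem.2 (Ideal.mem_span_singleton_self _), zero_mul, Matrix.zero_apply])
      (by
        ext k l
        fin_cases k <;> fin_cases l <;> simp [t, Matrix.mul_apply, Algebra.smul_def])
    have h' := congrFun (congrFun (congrArg f h) 1) 0
    simp only [map_add, map_smul, hf, hfe, Matrix.add_apply, Matrix.smul_apply] at h'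
    simp [t, Algebra.smul_def] at h'
    rw [← Ideal.Quotient.eq]
    exact h'
  have hstep : ∀ N i, ∃ c d : R, x i = c • (1 : Twist p R (B u v) i) + (v ^ N * d) • e p u v i := by
    intro N
    induction N with
    | zero => exact fun i => ⟨a i, b i, by rw [pow_zero, one_mul]; exact hab i⟩
    | succ N ih =>
      intro i
      obtain ⟨c, d, h⟩ := ih (i + 1)
      have h1 : 1 ≤ (p - 1) * p ^ i :=
        Nat.mul_pos (Nat.sub_pos_of_lt (Fact.out : p.Prime).one_lt) (hP i)
      obtain ⟨M, hM'⟩ := Nat.exists_eq_add_of_le h1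
      refine ⟨c, d * v ^ M, ?_⟩
      rw [← hF i, h, map_add, map_smul, map_smul, map_one, relFrob_e p u v hp, smul_smul, hM']
      congr 2
      ring
  have hb : ∀ i, b i • e p u v i = 0 := fun i => by
    have : b i ∈ Ideal.span {u ^ p ^ i} := hsep _ (hP i) _ fun n => by
      obtain ⟨c, d, h⟩ := hstep n i
      have := hM i _ _ _ _ ((hab i).symm.trans h)
      rw [← sub_add_cancel (b i) (v ^ n * d)]
      exact Ideal.add_mem _ (Submodule.mem_sup_right this)
        (Submodule.mem_sup_left (Ideal.mem_span_singleton.2 (dvd_mul_right _ _)))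
    obtain ⟨r, hr⟩ := Ideal.mem_span_singleton.1 this
    rw [hr, mul_comm (u ^ p ^ i) r, mul_smul, smul_e, smul_zero]
  have hx' : ∀ i, x i = a i • (1 : Twist p R (B u v) i) := fun i => by rw [hab i, hb i, add_zero]
  have ha : ∀ i, a i = a 0 := fun i => by
    induction i with
    | zero => rfl
    | succ i ih =>
      rw [← ih]
      refine hinj i _ _ ?_
      rw [← hx' i, ← hF i, hx' (i + 1), map_smul, map_one]
  refine ⟨a 0, Subtype.ext (funext fun i => ?_)⟩
  show algebraMap R (Π j, Twist p R (B u v) j) (a 0) i = x i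
  rw [hx' i, ha i, Pi.algebraMap_apply, Algebra.algebraMap_eq_smul_one]

end Groth.Agent.PrePerf98
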